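import Cfsg.Agent.H960.CY.Lucas

/-!
# S4829, alternating groups: arithmetic (helper960), the form asked for by helper87
-/

set_option autoImplicit false

namespace Cfsg.Agent.H960.CYA

open Cfsg.Agent.H960.CY

theorem alt_arith {n p : ℕ} (hp : p.Prime) (h3 : 3 ≤ p) (hpn : p ≤ n) (h2 : n ≠ 2 * p - 1) :
    (∃ k, 1 ≤ k ∧ 2 * k ≤ n ∧ p ∣ n.choose k) ∨
    (n % p = p - 1 ∧ 2 * p ≤ n ∧ n.choose (p - 1) < n.choose p ∧ ¬ p ∣ n.choose p - n.choose (p - 1)) := by
  rcases CY.cases hp hpn with h | ⟨a, t, ha, hap, ht, hn⟩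
  · exact Or.inl h
  right
  have hA : ¬ (t = 1 ∧ a = 2) := by
    rintro ⟨rfl, rfl⟩
    rw [pow_one] at hn
    omega
  have hB : ¬ (t = 1 ∧ a = 1) := by
    rintro ⟨rfl, rfl⟩
    rw [pow_one] at hn
    omega
  have h2p := CY.two_mul_le hp ha ht hn (by omega) hA hB
  have hlt : n.choose (p - 1) < n.choose p := by
    obtain ⟨r, rfl⟩ : ∃ r, p = r + 1 := ⟨p - 1, by omega⟩
    rw [Nat.add_sub_cancel]
    have h4 := Nat.choose_succ_right_eq n r
    have h5 : 0 < n.choose r := Nat.choose_pos (by omega)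
    have h6 : r + 2 ≤ n - r := by omega
    by_contra hcon
    push Not at hcon
    have h7 : n.choose r * (n - r) ≤ n.choose r * (r + 1) := by
      rw [← h4]
      exact Nat.mul_le_mul_right _ hcon
    have h8 := Nat.le_of_mul_le_mul_left h7 h5
    omega
  refine ⟨(CY.div_mod hp ha ht hn).1, h2p, hlt, fun hd => ?_⟩
  apply CY.not_dvd_sub hp ha ht hn hap (by omega) hA hB
  have h4 := Int.natCast_dvd_natCast.2 hd
  rwa [Nat.cast_sub hlt.le] at h4

end Cfsg.Agent.H960.CYA
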